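import Mathlib

/-!
Vectors and functionals avoiding a few subspaces, and eigenvectors, over a field with at least four elements.
-/

set_option autoImplicit false

namespace Cfsg.Agent.Lib.TwoClass

open Module (finrank)

variable {K V : Type*} [Field K] [AddCommGroup V] [Module K V]

theorem exists_avoid_scalar (l : List K) (h : (l.length : Cardinal) < Cardinal.mk K) : ∃ t : K, t ∉ l := by
  by_contra! hc
  choose i hi e using fun t => List.getElem_of_mem (hc t)
  have hinj : Function.Injective (fun t : K => (⟨i t, hi t⟩ : Fin l.length)) := fun s t hst => by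
    have h1 : i s = i t := congrArg Fin.val hst
    rw [← e s, ← e t]
    simp [h1]
  have h2 := Cardinal.lift_mk_le_lift_mk_of_injective hinj
  simp at h2
  exact h.not_ge h2

/-- Fewer subspaces than there are scalars plus one do not cover. -/
theorem exists_avoid : ∀ (l : List (Submodule K V)), (∀ W ∈ l, W ≠ ⊤) → (l.length : Cardinal) ≤ Cardinal.mk K →
    ∃ v : V, ∀ W ∈ l, v ∉ W := by
  intro l
  induction l with
  | nil => exact fun _ _ => ⟨0, fun W hW => absurd hW (List.not_mem_nil)⟩
  | cons W l ih =>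
    intro hne hcard
    have hlt : (l.length : Cardinal) < Cardinal.mk K :=
      by simpa using hcard
    obtain ⟨u, hu⟩ := ih (fun X hX => hne X (List.mem_cons_of_mem _ hX)) hlt.le
    by_cases huW : u ∈ W
    swap
    · exact ⟨u, List.forall_mem_cons.2 ⟨huW, hu⟩⟩
    obtain ⟨v, hv⟩ : ∃ v, v ∉ W := by
      by_contra! hc
      exact hne W List.mem_cons_self (eq_top_iff.2 fun x _ => hc x)
    by_contra! hc
    have hbad : ∀ t : K, ∃ i : Fin l.length, v + t • u ∈ l[i] := fun t => by
      obtain ⟨X, hX, hm⟩ := hc (v + t • u)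
      rcases List.mem_cons.1 hX with rfl | hX
      · exact absurd ((Submodule.add_mem_iff_left _ (Submodule.smul_mem _ _ huW)).1 hm) hv
      · obtain ⟨i, hi, rfl⟩ := List.getElem_of_mem hX
        exact ⟨⟨i, hi⟩, hm⟩
    choose f hf using hbad
    have hinj : Function.Injective f := by
      intro s t hst
      by_contra hne'
      have h1 := Submodule.sub_mem _ (hst ▸ hf s) (hf t)
      rw [add_sub_add_left_eq_sub, ← sub_smul] at h1
      have := Submodule.smul_mem _ (s - t)⁻¹ h1
      rw [smul_smul, inv_mul_cancel₀ (sub_ne_zero.2 hne'), one_smul] at this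
      exact hu _ (List.getElem_mem _) this
    have h2 := Cardinal.lift_mk_le_lift_mk_of_injective hinj
    simp at h2
    exact hlt.not_ge h2

theorem five_le (hK : 4 ≤ Cardinal.mk K) (h2 : (2 : K) ≠ 0) : 5 ≤ Cardinal.mk K := by
  by_contra hc
  have hlt : Cardinal.mk K < 5 := not_le.1 hc
  haveI : Finite K := Cardinal.mk_lt_aleph0_iff.1 (hlt.trans (by exact_mod_cast Cardinal.natCast_lt_aleph0 (n := 5)))
  letI := Fintype.ofFinite K
  rw [Cardinal.mk_fintype] at hlt hK
  have e : Fintype.card K = 4 := by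
    have h1 : Fintype.card K < 5 := by exact_mod_cast hlt
    have h3 : 4 ≤ Fintype.card K := by exact_mod_cast hK
    omega
  have h0 := FiniteField.cast_card_eq_zero K
  rw [e] at h0
  exact h2 (mul_self_eq_zero.1 (by push_cast at h0; linear_combination h0))

/-- A functional with a prescribed value avoiding the kernels of a few vectors. -/
theorem exists_functional (b d : V) (zs : List V) (hb : b ∉ Submodule.span K {d})
    (hz : ∀ z ∈ zs, z ∉ Submodule.span K {d}) (hcard : ((zs.length + 1 : ℕ) : Cardinal) ≤ Cardinal.mk K) :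
    ∃ φ : Module.Dual K V, φ b = 1 ∧ φ d = 0 ∧ ∀ z ∈ zs, φ z ≠ 0 := by
  let A : Submodule K (Module.Dual K V) := LinearMap.ker (Module.Dual.eval K V d)
  let H : V → Submodule K A := fun z => (LinearMap.ker (Module.Dual.eval K V z)).comap A.subtype
  have hH : ∀ z, z ∉ Submodule.span K {d} → H z ≠ ⊤ := fun z hz h => by
    obtain ⟨f, hfz, hf⟩ := Submodule.exists_dual_map_eq_bot_of_notMem hz inferInstance
    have hfd : f d = 0 := by
      rw [← Submodule.mem_bot K, ← hf]
      exact Submodule.mem_map_of_mem (Submodule.mem_span_singleton_self d)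
    have : (⟨f, hfd⟩ : A) ∈ H z := h ▸ Submodule.mem_top
    exact hfz this
  have hne : ∀ W ∈ (b :: zs).map H, W ≠ ⊤ := fun W hW => by
    obtain ⟨z, hz', rfl⟩ := List.mem_map.1 hW
    refine hH z ?_
    rcases List.mem_cons.1 hz' with hzb | hz'
    exacts [hzb ▸ hb, hz _ hz']
  obtain ⟨⟨f, hfd⟩, hf⟩ := exists_avoid (V := A) ((b :: zs).map H) hne (by simpa using hcard)
  have hfb : f b ≠ 0 := fun h => hf (H b) (List.mem_map_of_mem List.mem_cons_self) h
  refine ⟨(f b)⁻¹ • f, by simp [hfb], by simp [show f d = 0 from hfd], fun z hz' => ?_⟩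
  have : f z ≠ 0 := fun h => hf (H z) (List.mem_map_of_mem (List.mem_cons_of_mem _ hz')) h
  simp [hfb, this]

/-- A vector which is no eigenvector, off a line and a hyperplane. -/
theorem exists_not_eigen (hK : 4 ≤ Cardinal.mk K) (B : Module.End K V) (hB : ¬ ∃ μ : K, B = μ • 1) {r : Module.Dual K V}
    (hr : r ≠ 0) (s : V) : ∃ b : V, r b ≠ 0 ∧ b ∉ Submodule.span K {s} ∧ ∀ μ : K, B b ≠ μ • b := by
  obtain ⟨x, hx⟩ : ∃ x, r x ≠ 0 := by
    by_contra! hc; exact hr (LinearMap.ext hc)
  obtain ⟨u₀, hu₀⟩ : ∃ u, r u = 1 := ⟨(r x)⁻¹ • x, by simp [hx]⟩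
  by_contra! hc
  have hE : ∀ v, r v = 1 → v ∉ Submodule.span K {s} → ∃ μ : K, B v = μ • v := fun v h1 h2 =>
    hc v (by rw [h1]; exact one_ne_zero) h2
  have three : ∀ l : List K, l.length ≤ 3 → ∃ t : K, t ∉ l := fun l hl => exists_avoid_scalar l
    (lt_of_lt_of_le (by exact_mod_cast Nat.lt_succ_of_le hl) hK)
  have hline : ∀ v w, w ≠ 0 → v ∉ Submodule.span K {s} ∨ w ∉ Submodule.span K {s} → ∀ t₁ t₂ : K, t₁ ≠ t₂ →
      v + t₁ • w ∉ Submodule.span K {s} ∨ v + t₂ • w ∉ Submodule.span K {s} := by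
    intro v w _ hvw t₁ t₂ hne
    by_contra! h
    have h1 := Submodule.sub_mem _ h.1 h.2
    rw [add_sub_add_left_eq_sub, ← sub_smul] at h1
    have hw := Submodule.smul_mem _ (t₁ - t₂)⁻¹ h1
    rw [smul_smul, inv_mul_cancel₀ (sub_ne_zero.2 hne), one_smul] at hw
    exact (hvw.elim (fun hv => hv ((Submodule.add_mem_iff_left _ (Submodule.smul_mem _ t₁ hw)).1 h.1)) fun h' => h' hw)
  have hsame : ∀ u v, r u = 1 → r v = 1 → u ∉ Submodule.span K {s} → v ∉ Submodule.span K {s} → ∀ μ : K, B u = μ • u → B v = μ • v := by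
    intro u v hu hv hus hvs μ hμ
    obtain ⟨ν, hν⟩ := hE v hv hvs
    by_cases h0 : ν = μ
    · rw [hν, h0]
    exfalso
    have hw : u - v ≠ 0 := fun h => h0 (by
      rw [sub_eq_zero] at h
      subst h
      have := hν.symm.trans hμ
      exact smul_left_injective K (fun h' : u = 0 => by rw [h', map_zero] at hu; exact zero_ne_one hu) this)
    obtain ⟨t₁, h1⟩ := three [0, 1] (by simp)
    obtain ⟨t₂, h2⟩ := three [0, 1, t₁] (by simp)
    simp only [List.mem_cons, List.not_mem_nil, or_false, not_or] at h1 h2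
    have key : ∀ t : K, t ≠ 0 → t ≠ 1 → v + t • (u - v) ∈ Submodule.span K {s} := by
      intro t ht0 ht1
      by_contra hnot
      obtain ⟨ρ, hρ⟩ := hE _ (by simp [hu, hv]) hnot
      rw [map_add, map_smul, map_sub, hμ, hν] at hρ
      have e : (t * (μ - ρ)) • u = ((1 - t) * (ρ - ν)) • v := by
        rw [← sub_eq_zero] at hρ ⊢
        rw [← hρ]
        module
      have hr' := congrArg r e
      simp only [map_smul, hu, hv, smul_eq_mul, mul_one] at hr'
      by_cases hc0 : t * (μ - ρ) = 0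
      · rw [hc0] at hr'
        have e1 := (mul_eq_zero.1 hc0).resolve_left ht0
        have e2 := (mul_eq_zero.1 hr'.symm).resolve_left (sub_ne_zero.2 (Ne.symm ht1))
        exact h0 (by linear_combination -(e1) - e2)
      · rw [← hr'] at e
        exact hw (sub_eq_zero.2 (smul_right_injective V hc0 e))
    rcases hline v (u - v) hw (.inl hvs) t₁ t₂ (fun h => h2.2.2 h.symm) with h | h
    exacts [h (key t₁ h1.1 h1.2), h (key t₂ h2.1 h2.2.1)]
  obtain ⟨u, hu, hus⟩ : ∃ u, r u = 1 ∧ u ∉ Submodule.span K {s} := by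
    by_cases h : u₀ ∈ Submodule.span K {s}
    swap
    · exact ⟨u₀, hu₀, h⟩
    obtain ⟨w, hw, hw0⟩ : ∃ w, r w = 0 ∧ w ≠ 0 := by
      by_contra! hker
      refine hB ⟨r (B u₀), LinearMap.ext fun y => ?_⟩
      have hy : ∀ y, y = r y • u₀ := fun y => sub_eq_zero.1 (hker _ (by simp [hu₀]))
      conv_lhs => rw [hy y, map_smul, hy (B u₀)]
      rw [smul_smul, mul_comm, ← smul_smul, ← hy]
      simp
    refine ⟨u₀ + w, by simp [hu₀, hw], fun hm => ?_⟩
    obtain ⟨a, ha⟩ := Submodule.mem_span_singleton.1 ((Submodule.add_mem_iff_right _ h).1 hm)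
    obtain ⟨a', ha'⟩ := Submodule.mem_span_singleton.1 h
    rw [← ha', map_smul, smul_eq_mul] at hu₀
    rw [← ha, map_smul, smul_eq_mul] at hw
    have hs0 : r s ≠ 0 := fun h' => by rw [h', mul_zero] at hu₀; exact zero_ne_one hu₀
    rw [(mul_eq_zero.1 hw).resolve_right hs0, zero_smul] at ha
    exact hw0 ha.symm
  obtain ⟨μ, hμ⟩ := hE u hu hus
  refine hB ⟨μ, LinearMap.ext fun y => ?_⟩
  have hker : ∀ w, r w = 0 → B w = μ • w := by
    intro w hw
    by_cases hw0 : w = 0
    · simp [hw0]
    obtain ⟨t₂, h2⟩ := three [0, 1] (by simp)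
    simp only [List.mem_cons, List.not_mem_nil, or_false, not_or] at h2
    have : ∀ t : K, t ≠ 0 → u + t • w ∉ Submodule.span K {s} → B w = μ • w := fun t ht hnot => by
      have h := hsame u (u + t • w) hu (by simp [hu, hw]) hus hnot μ hμ
      rw [map_add, map_smul, hμ, smul_add, add_right_inj, smul_comm] at h
      exact smul_right_injective V ht h
    rcases hline u w hw0 (.inl hus) 1 t₂ (fun h => h2.2 h.symm) with h | h
    exacts [this 1 one_ne_zero h, this t₂ h2.1 h]
  have h := hker (y - r y • u) (by simp [hu])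
  rw [map_sub, map_smul, hμ, smul_sub, smul_comm, sub_left_inj] at h
  simpa using h

end Cfsg.Agent.Lib.TwoClass
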