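import Mathlib
import Cfsg.Agent.Lib.TwoClass.Avoid

/-!
The first step of the decomposition of a matrix into two regular unipotent factors.
-/

set_option autoImplicit false

namespace Cfsg.Agent.Lib.TwoClass

open Module (finrank)

variable {K V : Type*} [Field K] [AddCommGroup V] [Module K V] [FiniteDimensional K V]

/-- Neither scalar nor within rank one of the identity. -/
def Good (B : Module.End K V) : Prop := (¬ ∃ μ : K, B = μ • 1) ∧ 2 ≤ finrank K (LinearMap.range (B - 1))

/-- The eigenspace as a kernel. -/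
def Eig (B : Module.End K V) (μ : K) : Submodule K V := LinearMap.ker (B - μ • 1)

omit [FiniteDimensional K V] in
theorem mem_eig {B : Module.End K V} {μ : K} {v : V} : v ∈ Eig B μ ↔ B v = μ • v := by
  simp [Eig, sub_eq_zero]

omit [FiniteDimensional K V] in
theorem eig_one (B : Module.End K V) : Eig B 1 = LinearMap.ker (B - 1) := by rw [Eig, one_smul]

/-- The induced endomorphism of the complement. -/
def schur (B : Module.End K V) (b : V) (φ : Module.Dual K V) (h : φ (B b) = 1) : Module.End K (LinearMap.ker φ) :=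
  LinearMap.codRestrict _ ((B - (φ.comp B).smulRight (B b)).comp (LinearMap.ker φ).subtype) fun w => by
    rw [LinearMap.mem_ker]
    simp [h]

omit [FiniteDimensional K V] in
theorem schur_apply (B : Module.End K V) (b : V) (φ : Module.Dual K V) (h : φ (B b) = 1) (w : LinearMap.ker φ) :
    ((schur B b φ h w : LinearMap.ker φ) : V) = B w - φ (B w) • B b := rfl

theorem det_schur (B : Module.End K V) (b : V) (φ : Module.Dual K V) (hb : φ b = 1) (h : φ (B b) = 1) :
    LinearMap.det (schur B b φ h) = LinearMap.det B := by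
  let W := LinearMap.ker φ
  let π : V →ₗ[K] W := LinearMap.codRestrict _ (LinearMap.id - φ.smulRight b) fun v => by
    rw [LinearMap.mem_ker]; simp [hb]
  let e : V ≃ₗ[K] K × W := LinearEquiv.ofLinear (φ.prod π)
    ((LinearMap.fst K K W).smulRight b + W.subtype.comp (LinearMap.snd K K W))
    (LinearMap.ext fun x => by
      have hx : φ x.2.1 = 0 := x.2.2
      refine Prod.ext ?_ (Subtype.ext ?_) <;> simp [π, hb, hx])
    (LinearMap.ext fun v => by simp [π])
  let d : W := ⟨B b - b, by rw [LinearMap.mem_ker, map_sub, h, hb, sub_self]⟩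
  let f : K × W →ₗ[K] K := (φ.comp B).comp (W.subtype.comp (LinearMap.snd K K W))
  have hL : (e : V →ₗ[K] K × W) ∘ₗ B ∘ₗ (e.symm : K × W →ₗ[K] V) =
      LinearMap.transvection (LinearMap.fst K K W) ((0 : K), d) ∘ₗ
        (LinearMap.id (R := K) (M := K)).prodMap (schur B b φ h) ∘ₗ LinearMap.transvection f ((1 : K), (0 : W)) := by
    refine LinearMap.ext fun x => ?_
    have hx : φ x.2.1 = 0 := x.2.2
    refine Prod.ext ?_ (Subtype.ext ?_)
    · simp [e, f, LinearMap.transvection, h]
    · simp [e, f, π, d, LinearMap.transvection, h]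
      erw [schur_apply]
      module
  have h1 := congrArg LinearMap.det hL
  rw [LinearMap.det_conj, LinearMap.det_comp, LinearMap.det_comp, LinearMap.det_prodMap, LinearMap.det_id,
    LinearMap.transvection.det, LinearMap.transvection.det] at h1
  simpa [f] using h1.symm

omit [FiniteDimensional K V] in
theorem not_mem_span_of_two {E : Submodule K V} [FiniteDimensional K E] (h : 2 ≤ finrank K E) (d : V) :
    ∃ z ∈ E, z ∉ Submodule.span K {d} := by
  by_contra! hc
  have := (Submodule.finrank_mono (t := Submodule.span K {d}) hc).trans (finrank_span_le_card _)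
  simp at this
  omega

theorem finrank_ker_dual {m : ℕ} (hV : finrank K V = m + 1) {φ : Module.Dual K V} {b : V} (hb : φ b = 1) :
    finrank K (LinearMap.ker φ) = m := by
  have h := LinearMap.finrank_range_add_finrank_ker φ
  rw [LinearMap.range_eq_top.2 fun c => ⟨c • b, by simp [hb]⟩, finrank_top, Module.finrank_self, hV] at h
  omega

omit [FiniteDimensional K V] in
theorem eig_disjoint {B : Module.End K V} {μ ν : K} (h : μ ≠ ν) : Eig B μ ⊓ Eig B ν = ⊥ := by
  rw [eq_bot_iff]
  intro x ⟨hx, hy⟩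
  rw [SetLike.mem_coe, mem_eig] at hx hy
  rw [hx] at hy
  rw [Submodule.mem_bot]
  by_contra hx0
  exact h (smul_left_injective K hx0 hy)

theorem eig_three {m : ℕ} (hV : finrank K V = m + 1) {B : Module.End K V} {μ₁ μ₂ μ₃ : K} (h12 : μ₁ ≠ μ₂) (h13 : μ₁ ≠ μ₃)
    (h23 : μ₂ ≠ μ₃) : finrank K (Eig B μ₁) + finrank K (Eig B μ₂) + finrank K (Eig B μ₃) ≤ m + 1 := by
  have hd : (Eig B μ₁ ⊔ Eig B μ₂) ⊓ Eig B μ₃ = ⊥ := by
    rw [eq_bot_iff]
    intro x ⟨hx, hx3⟩
    obtain ⟨a, ha, c, hc, rfl⟩ := Submodule.mem_sup.1 hx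
    rw [SetLike.mem_coe] at hx3
    rw [mem_eig, map_add, mem_eig.1 ha, mem_eig.1 hc] at hx3
    have e : (μ₁ - μ₃) • a = (μ₃ - μ₂) • c := by
      rw [← sub_eq_zero] at hx3 ⊢
      rw [← hx3]
      module
    have ha2 : a ∈ Eig B μ₂ := by
      have := Submodule.smul_mem (Eig B μ₂) (μ₁ - μ₃)⁻¹ (Submodule.smul_mem _ (μ₃ - μ₂) hc)
      rwa [← e, smul_smul, inv_mul_cancel₀ (sub_ne_zero.2 h13), one_smul] at this
    have ha0 : a = 0 := by
      rw [← Submodule.mem_bot K, ← eig_disjoint (B := B) h12]; exact ⟨ha, ha2⟩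
    rw [ha0, smul_zero, eq_comm, smul_eq_zero] at e
    rw [Submodule.mem_bot, ha0, e.resolve_left (sub_ne_zero.2 h23.symm), add_zero]
  have e1 := Submodule.finrank_sup_add_finrank_inf_eq (Eig B μ₁) (Eig B μ₂)
  have e2 := Submodule.finrank_sup_add_finrank_inf_eq (Eig B μ₁ ⊔ Eig B μ₂) (Eig B μ₃)
  have e3 := Submodule.finrank_le (Eig B μ₁ ⊔ Eig B μ₂ ⊔ Eig B μ₃)
  rw [eig_disjoint h12, finrank_bot] at e1
  rw [hd, finrank_bot] at e2
  omega

/-- The candidates for a scalar on the complement. -/
def Cand (B : Module.End K V) (m : ℕ) (μ : K) : Prop :=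
  μ ≠ 1 ∧ m - 1 ≤ finrank K (Eig B μ) ∧ (m = 2 → μ = -1) ∧ 2 ≤ m

/-- What is required of the first vector and functional. -/
def Pair (B : Module.End K V) (m : ℕ) (c : V) (r : Module.Dual K V) (b : V) (φ : Module.Dual K V) : Prop :=
  φ b = 1 ∧ φ (B b) = 1 ∧ r b ≠ 0 ∧ φ c ≠ 0 ∧ B b ≠ b ∧ (∃ y, φ ((B - 1) y) ≠ 0) ∧
    (2 ≤ m → (∀ μ : K, B b ≠ μ • b) ∧ (∀ μ, Cand B m μ → ∃ z ∈ Eig B μ, φ z ≠ 0) ∧
      finrank K ↥(Submodule.comap (B - 1) (Submodule.span K {B b}) ⊓ LinearMap.ker φ) ≤ m - 2)

theorem choice_pos (hK : 4 ≤ Cardinal.mk K) {m : ℕ} (hV : finrank K V = m + 1) {B : Module.End K V}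
    (hG : Good B) {c : V} (hc : c ≠ 0) {r : Module.Dual K V} (hr : r ≠ 0)
    (hk : 1 ≤ finrank K (LinearMap.ker (B - 1))) : ∃ b φ, Pair B m c r b φ := by
  classical
  obtain ⟨hns, hR⟩ := hG
  have hrn := LinearMap.finrank_range_add_finrank_ker (B - 1)
  rw [hV] at hrn
  let N2 : Submodule K V := if (B - 1) * (B - 1) = 0 then ⊥ else LinearMap.ker ((B - 1) * (B - 1))
  let ex : List (Submodule K V) := if (2 : K) ≠ 0 ∧ B * B ≠ 1 then [LinearMap.ker (B * B - 1)] else []
  have hlist : ∀ W ∈ [LinearMap.ker r, LinearMap.range (B - 1), (Submodule.span K {c}).comap (B - 1), N2] ++ ex, W ≠ ⊤ := by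
    intro W hW
    simp only [List.mem_append, List.mem_cons, List.not_mem_nil, or_false] at hW
    rcases hW with (rfl | rfl | rfl | rfl) | hW
    · exact fun h => hr (LinearMap.ker_eq_top.1 h)
    · intro h
      rw [h, finrank_top, hV] at hrn
      omega
    · intro h
      have hle : LinearMap.range (B - 1) ≤ Submodule.span K {c} := by
        rintro _ ⟨x, rfl⟩
        have : x ∈ (Submodule.span K {c}).comap (B - 1) := h ▸ Submodule.mem_top
        exact this
      have := hR.trans (Submodule.finrank_mono hle)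
      rw [finrank_span_singleton hc] at this
      omega
    · intro h
      simp only [N2] at h
      split_ifs at h with h0
      · have := congrArg (fun U : Submodule K V => finrank K U) h
        simp [hV] at this
      · exact h0 (LinearMap.ker_eq_top.1 h)
    · simp only [ex] at hW
      split_ifs at hW with h0
      · rw [List.mem_singleton] at hW
        subst hW
        exact fun h => h0.2 (sub_eq_zero.1 (LinearMap.ker_eq_top.1 h))
      · simp at hW
  obtain ⟨b, hb⟩ := exists_avoid _ hlist (by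
    simp only [ex]
    split_ifs with h0
    · simpa using five_le hK h0.1
    · simpa using hK)
  simp only [List.forall_mem_append, List.forall_mem_cons, List.not_mem_nil, IsEmpty.forall_iff, implies_true, and_true] at hb
  obtain ⟨⟨hrb, hbIm, hS, hN2⟩, hex⟩ := hb
  obtain ⟨d, hdd⟩ : ∃ d, d = (B - 1) b := ⟨_, rfl⟩
  have hd0 : d ≠ 0 := fun h => hS (by
    rw [Submodule.mem_comap, ← hdd, h]; exact Submodule.zero_mem _)
  have hdB : B b = b + d := by simp [hdd]
  have hne : B b ≠ b := fun h => hd0 (by simpa [h] using hdB)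
  have heig : ∀ μ : K, B b ≠ μ • b := fun μ h => by
    refine hbIm ⟨(μ - 1)⁻¹ • b, ?_⟩
    have hμ : μ - 1 ≠ 0 := fun h' => hne (by rw [h, sub_eq_zero.1 h', one_smul])
    rw [map_smul, LinearMap.sub_apply, Module.End.one_apply, h]
    rw [show μ • b - b = (μ - 1) • b by module, smul_smul, inv_mul_cancel₀ hμ, one_smul]
  have hbd : b ∉ Submodule.span K {d} := fun h => by
    obtain ⟨a, ha⟩ := Submodule.mem_span_singleton.1 h
    exact hbIm ⟨a • b, by rw [map_smul, ← hdd, ha]⟩
  have hcd : c ∉ Submodule.span K {d} := fun h => by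
    obtain ⟨a, ha⟩ := Submodule.mem_span_singleton.1 h
    have ha0 : a ≠ 0 := fun h' => hc (by rw [← ha, h', zero_smul])
    refine hS (Submodule.mem_comap.2 (Submodule.mem_span_singleton.2 ⟨a⁻¹, ?_⟩))
    rw [← hdd, ← ha, smul_smul, inv_mul_cancel₀ ha0, one_smul]
  obtain ⟨z₁, hz₁d, ⟨y, hy⟩, hz₁⟩ : ∃ z₁, z₁ ∉ Submodule.span K {d} ∧ (∃ y, (B - 1) y = z₁) ∧
      ∀ μ, Cand B m μ → z₁ ∈ Eig B μ := by
    by_cases hC : ∃ μ, Cand B m μ
    · obtain ⟨μ, hμ1, hμdim, hμ2, hm⟩ := hC
      obtain ⟨z, hz, hzd⟩ : ∃ z ∈ Eig B μ, z ∉ Submodule.span K {d} := by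
        by_cases h3 : 2 ≤ finrank K (Eig B μ)
        · exact not_mem_span_of_two h3 d
        obtain rfl : m = 2 := by omega
        obtain rfl := hμ2 rfl
        by_contra! hle
        have h2 : (2 : K) ≠ 0 := fun h => hμ1 (by linear_combination -h)
        have hEd : Eig B (-1 : K) = Submodule.span K {d} :=
          Submodule.eq_of_le_of_finrank_le hle (by rw [finrank_span_singleton hd0]; omega)
        have hdE := mem_eig.1 (hEd ▸ Submodule.mem_span_singleton_self d)
        have hbb : (B * B - 1) b = 0 := by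
          rw [LinearMap.sub_apply, Module.End.mul_apply, Module.End.one_apply, hdB, map_add, hdB, hdE]
          module
        have hBB : B * B = 1 := by
          by_contra hne'
          simp only [ex, if_pos (And.intro h2 hne'), List.forall_mem_cons, LinearMap.mem_ker] at hex
          exact hex.1 hbb
        have hle' : LinearMap.range (B - 1) ≤ Eig B (-1 : K) := by
          rintro _ ⟨x, rfl⟩
          rw [mem_eig, LinearMap.sub_apply, Module.End.one_apply, map_sub, ← Module.End.mul_apply, hBB, Module.End.one_apply]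
          module
        have := hR.trans (Submodule.finrank_mono hle')
        omega
      refine ⟨z, hzd, ⟨(μ - 1)⁻¹ • z, ?_⟩, fun ν hν => ?_⟩
      · rw [map_smul, LinearMap.sub_apply, Module.End.one_apply, mem_eig.1 hz, show μ • z - z = (μ - 1) • z by module,
          smul_smul, inv_mul_cancel₀ (sub_ne_zero.2 hμ1), one_smul]
      · obtain ⟨hν1, hνdim, hν2, -⟩ := hν
        by_cases h : ν = μ
        · exact h ▸ hz
        exfalso
        by_cases h2m : m = 2
        · exact h (by rw [hν2 h2m, hμ2 h2m])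
        have := eig_three hV (B := B) (μ₁ := 1) (Ne.symm hμ1) (Ne.symm hν1) (Ne.symm h)
        rw [eig_one] at this
        omega
    · obtain ⟨z, hz, hzd⟩ := not_mem_span_of_two hR d
      exact ⟨z, hzd, hz, fun μ hμ => absurd ⟨μ, hμ⟩ hC⟩
  obtain ⟨z₂, hz₂, hz₂d⟩ : ∃ z ∈ LinearMap.ker (B - 1), z ∉ Submodule.span K {d} := by
    by_cases h2 : 2 ≤ finrank K (LinearMap.ker (B - 1))
    · exact not_mem_span_of_two h2 d
    by_contra! hle
    have hEd : LinearMap.ker (B - 1) = Submodule.span K {d} :=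
      Submodule.eq_of_le_of_finrank_le hle (by rw [finrank_span_singleton hd0]; omega)
    have hdk : (B - 1) d = 0 := LinearMap.mem_ker.1 (hEd ▸ Submodule.mem_span_singleton_self d)
    simp only [N2] at hN2
    split_ifs at hN2 with h0
    · have hle' : LinearMap.range (B - 1) ≤ LinearMap.ker (B - 1) := by
        rintro _ ⟨x, rfl⟩
        exact LinearMap.congr_fun h0 x
      have := hR.trans (Submodule.finrank_mono hle')
      omega
    · exact hN2 (by rw [LinearMap.mem_ker, Module.End.mul_apply, ← hdd]; exact hdk)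
  obtain ⟨φ, hφb, hφd, hφz⟩ := exists_functional b d [c, z₁, z₂] hbd
    (by simp only [List.forall_mem_cons, List.not_mem_nil, IsEmpty.forall_iff, implies_true, and_true]; exact ⟨hcd, hz₁d, hz₂d⟩)
    (by simpa using hK)
  simp only [List.forall_mem_cons, List.not_mem_nil, IsEmpty.forall_iff, implies_true, and_true] at hφz
  obtain ⟨hφc, hφ1, hφ2⟩ := hφz
  refine ⟨b, φ, hφb, by rw [hdB, map_add, hφb, hφd, add_zero], fun h => hrb h, hφc, hne,
    ⟨y, by rw [hy]; exact hφ1⟩, fun hm => ⟨heig, fun μ hμ => ⟨z₁, hz₁ μ hμ, hφ1⟩, ?_⟩⟩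
  have hX : Submodule.comap (B - 1) (Submodule.span K {B b}) ⊓ LinearMap.ker φ ≤ LinearMap.ker (B - 1) := by
    rintro x ⟨hx, -⟩
    obtain ⟨s, hs⟩ := Submodule.mem_span_singleton.1 (Submodule.mem_comap.1 hx)
    rw [LinearMap.mem_ker]
    by_cases hs0 : s = 0
    · rw [← hs, hs0, zero_smul]
    exfalso
    refine hbIm ⟨s⁻¹ • x - b, ?_⟩
    rw [map_sub, map_smul, ← hs, ← hdd, smul_smul, inv_mul_cancel₀ hs0, one_smul, hdB, add_sub_cancel_right]
  have hlt := Submodule.finrank_lt_finrank_of_lt (lt_of_le_of_ne hX fun h => hφ2 (LinearMap.mem_ker.1 (h ▸ hz₂).2))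
  omega

theorem choice_zero (hK : 4 ≤ Cardinal.mk K) {m : ℕ} (hV : finrank K V = m + 1) {B : Module.End K V}
    (hdet : LinearMap.det B = 1) (hG : Good B) {c : V} (hc : c ≠ 0) {r : Module.Dual K V} (hr : r ≠ 0)
    (hk : LinearMap.ker (B - 1) = ⊥) : ∃ b φ, Pair B m c r b φ := by
  classical
  obtain ⟨hns, hR⟩ := hG
  have hinj : Function.Injective ⇑(B - 1) := LinearMap.ker_eq_bot.1 hk
  have hsurj : Function.Surjective ⇑(B - 1) := LinearMap.injective_iff_surjective.1 hinj
  obtain ⟨s, hs⟩ := hsurj c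
  obtain ⟨b, hrb, hbs, heig⟩ := exists_not_eigen hK B hns hr s
  obtain ⟨d, hdd⟩ : ∃ d, d = (B - 1) b := ⟨_, rfl⟩
  have hdB : B b = b + d := by simp [hdd]
  have hne : B b ≠ b := fun h => heig 1 (by rw [h, one_smul])
  have hd0 : d ≠ 0 := fun h => hne (by rw [hdB, h, add_zero])
  have hbd : b ∉ Submodule.span K {d} := fun h => by
    obtain ⟨a, ha⟩ := Submodule.mem_span_singleton.1 h
    have ha0 : a ≠ 0 := fun h' => hrb (by rw [← ha, h', zero_smul, map_zero])
    refine heig (1 + a⁻¹) ?_
    rw [hdB, add_smul, one_smul, ← ha, smul_smul, inv_mul_cancel₀ ha0, one_smul]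
  have hcd : c ∉ Submodule.span K {d} := fun h => by
    obtain ⟨a, ha⟩ := Submodule.mem_span_singleton.1 h
    have ha0 : a ≠ 0 := fun h' => hc (by rw [← ha, h', zero_smul])
    refine hbs (Submodule.mem_span_singleton.2 ⟨a⁻¹, ?_⟩)
    have e : s = a • b := hinj (by rw [hs, map_smul, ← hdd, ha])
    rw [e, smul_smul, inv_mul_cancel₀ ha0, one_smul]
  obtain ⟨zs, hlen, hzd, hzC, hx⟩ : ∃ zs : List V, zs.length ≤ 2 ∧ (∀ z ∈ zs, z ∉ Submodule.span K {d}) ∧
      (∀ μ, Cand B m μ → ∃ z ∈ zs, z ∈ Eig B μ) ∧ (m = 2 → ∃ z ∈ zs, (B - 1) z = B b) := by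
    by_cases hm2 : m = 2
    · subst hm2
      obtain ⟨x, hx⟩ := hsurj (B b)
      have hxd : x ∉ Submodule.span K {d} := fun h => by
        obtain ⟨a, ha⟩ := Submodule.mem_span_singleton.1 h
        rw [← ha, map_smul] at hx
        have hBd : B d = B (B b) - B b := by rw [hdd, LinearMap.sub_apply, Module.End.one_apply, map_sub]
        have ha0 : a ≠ 0 := fun h' => by
          rw [h', zero_smul] at hx
          exact heig 0 (by rw [zero_smul, ← hx])
        have hN : (B - 1) d = a⁻¹ • B b := by rw [← hx, smul_smul, inv_mul_cancel₀ ha0, one_smul]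
        have hBB : B (B b) = (-1 : K) • b + (2 + a⁻¹) • B b := by
          have h1 := hN
          rw [LinearMap.sub_apply, Module.End.one_apply, hBd, hdd, LinearMap.sub_apply, Module.End.one_apply] at h1
          rw [← sub_eq_zero] at h1 ⊢
          rw [← h1]
          module
        have hli2 : LinearIndependent K ![b, B b] := LinearIndependent.pair_iff' (fun h => hrb (by rw [h, map_zero]))
          |>.2 fun a' h' => heig a' h'.symm
        obtain ⟨w, hw⟩ : ∃ w, w ∉ Submodule.span K (Set.range ![b, B b]) := by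
          by_contra! hall
          have := finrank_span_eq_card hli2
          rw [show Submodule.span K (Set.range ![b, B b]) = ⊤ from eq_top_iff.2 fun v _ => hall v, finrank_top, hV,
            Fintype.card_fin] at this
          omega
        have hw0 : w ∉ Submodule.span K (Set.range ![b, B b]) := hw
        have hli3 : LinearIndependent K ![w, b, B b] := linearIndependent_fin_cons.2 ⟨hli2, hw⟩
        let bs := basisOfLinearIndependentOfCardEqFinrank hli3 (by rw [Fintype.card_fin, hV])
        have e0 : bs 0 = w := by simp [bs]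
        have e1 : bs 1 = b := by simp [bs]
        have e2 : bs 2 = B b := by simp [bs]
        have hBw : B w = bs.repr (B w) 0 • w + bs.repr (B w) 1 • b + bs.repr (B w) 2 • B b := by
          conv_lhs => rw [← bs.sum_repr (B w)]
          rw [Fin.sum_univ_three, e0, e1, e2]
        have hc1 : bs.repr (B (bs 1)) = Finsupp.single 2 1 := by rw [e1, ← e2, Module.Basis.repr_self]
        have hc2 : bs.repr (B (bs 2)) = Finsupp.single 1 (-1) + Finsupp.single 2 (2 + a⁻¹) := by
          rw [e2, hBB, map_add, map_smul, map_smul]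
          nth_rewrite 1 [← e1]
          rw [← e2, Module.Basis.repr_self, Module.Basis.repr_self, Finsupp.smul_single, Finsupp.smul_single, smul_eq_mul,
            smul_eq_mul, mul_one, mul_one]
        rw [← LinearMap.det_toMatrix bs B, Matrix.det_fin_three] at hdet
        simp only [LinearMap.toMatrix_apply, hc1, hc2, e0] at hdet
        simp at hdet
        have hNw : (B - 1) w ∈ Submodule.span K (Set.range ![b, B b]) := by
          rw [LinearMap.sub_apply, Module.End.one_apply, hBw, hdet, one_smul, add_assoc, add_sub_cancel_left]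
          exact Submodule.add_mem _ (Submodule.smul_mem _ _ (Submodule.subset_span ⟨0, rfl⟩))
            (Submodule.smul_mem _ _ (Submodule.subset_span ⟨1, rfl⟩))
        have hmap : (Submodule.span K (Set.range ![b, B b])).map (B - 1) = Submodule.span K (Set.range ![b, B b]) := by
          refine Submodule.eq_of_le_of_finrank_le ?_ (Submodule.equivMapOfInjective _ hinj _).finrank_eq.le
          rw [Submodule.map_le_iff_le_comap, Submodule.span_le]
          rintro _ ⟨i, rfl⟩
          fin_cases i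
          · simp only [SetLike.mem_coe, Submodule.mem_comap]
            show (B - 1) b ∈ _
            rw [LinearMap.sub_apply, Module.End.one_apply]
            exact Submodule.sub_mem _ (Submodule.subset_span ⟨1, rfl⟩) (Submodule.subset_span ⟨0, rfl⟩)
          · simp only [SetLike.mem_coe, Submodule.mem_comap]
            show (B - 1) (B b) ∈ _
            rw [LinearMap.sub_apply, Module.End.one_apply, hBB]
            exact Submodule.sub_mem _ (Submodule.add_mem _ (Submodule.smul_mem _ _ (Submodule.subset_span ⟨0, rfl⟩))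
              (Submodule.smul_mem _ _ (Submodule.subset_span ⟨1, rfl⟩))) (Submodule.subset_span ⟨1, rfl⟩)
        rw [← hmap] at hNw
        obtain ⟨w', hw', hww⟩ := Submodule.mem_map.1 hNw
        exact hw0 (hinj hww ▸ hw')
      by_cases hC : ∃ μ, Cand B 2 μ
      · obtain ⟨μ, hμ1, hμdim, hμ2, -⟩ := hC
        obtain rfl := hμ2 rfl
        obtain ⟨z, hz, hzd⟩ : ∃ z ∈ Eig B (-1 : K), z ∉ Submodule.span K {d} := by
          by_contra! hle
          have hEd : Eig B (-1 : K) = Submodule.span K {d} :=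
            Submodule.eq_of_le_of_finrank_le hle (by rw [finrank_span_singleton hd0]; omega)
          have hdE := mem_eig.1 (hEd ▸ Submodule.mem_span_singleton_self d)
          refine heig (-1) (eq_of_sub_eq_zero (hinj ?_))
          rw [map_zero, map_sub, map_smul, ← hdd, LinearMap.sub_apply, Module.End.one_apply, hdB, map_add, hdB, hdE]
          module
        refine ⟨[x, z], by simp, by simp [hxd, hzd], fun ν hν => ⟨z, by simp, ?_⟩, fun _ => ⟨x, by simp, hx⟩⟩
        rwa [hν.2.2.1 rfl]
      · exact ⟨[x], by simp, by simp [hxd], fun μ hμ => absurd ⟨μ, hμ⟩ hC, fun _ => ⟨x, by simp, hx⟩⟩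
    · by_cases hC : ∃ μ, Cand B m μ
      · obtain ⟨μ, hμ⟩ := hC
        obtain ⟨hμ1, hμdim, -, hm⟩ := id hμ
        obtain ⟨z, hz, hzd⟩ := not_mem_span_of_two (show 2 ≤ finrank K (Eig B μ) by omega) d
        by_cases hC2 : ∃ ν, Cand B m ν ∧ ν ≠ μ
        · obtain ⟨ν, hν, hνμ⟩ := hC2
          obtain ⟨z', hz', hzd'⟩ := not_mem_span_of_two (show 2 ≤ finrank K (Eig B ν) by have := hν.2.1; omega) d
          refine ⟨[z, z'], by simp, by simp [hzd, hzd'], fun ρ hρ => ?_, fun h => absurd h hm2⟩
          by_cases h1 : ρ = μ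
          · exact ⟨z, by simp, h1 ▸ hz⟩
          by_cases h2 : ρ = ν
          · exact ⟨z', by simp, h2 ▸ hz'⟩
          exfalso
          have := eig_three hV (B := B) h1 h2 (Ne.symm hνμ)
          have := hρ.2.1
          have := hν.2.1
          omega
        · refine ⟨[z], by simp, by simp [hzd], fun ρ hρ => ⟨z, by simp, ?_⟩, fun h => absurd h hm2⟩
          obtain rfl : ρ = μ := by
            by_contra h
            exact hC2 ⟨ρ, hρ, h⟩
          exact hz
      · exact ⟨[], by simp, by simp, fun μ hμ => absurd ⟨μ, hμ⟩ hC, fun h => absurd h hm2⟩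
  obtain ⟨φ, hφb, hφd, hφz⟩ := exists_functional b d (c :: zs) hbd (List.forall_mem_cons.2 ⟨hcd, hzd⟩)
    (le_trans (by exact_mod_cast (show (c :: zs).length + 1 ≤ 4 by simp; omega)) hK)
  rw [List.forall_mem_cons] at hφz
  obtain ⟨y, hy⟩ := hsurj b
  refine ⟨b, φ, hφb, by rw [hdB, map_add, hφb, hφd, add_zero], hrb, hφz.1, hne,
    ⟨y, by rw [hy, hφb]; exact one_ne_zero⟩, fun hm => ⟨heig, fun μ hμ => ?_, ?_⟩⟩
  · obtain ⟨z, hz, hzE⟩ := hzC μ hμ
    exact ⟨z, hzE, hφz.2 z hz⟩
  obtain ⟨x, hxB⟩ := hsurj (B b)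
  have hX : Submodule.comap (B - 1) (Submodule.span K {B b}) ≤ Submodule.span K {x} := fun v hv => by
    obtain ⟨a, ha⟩ := Submodule.mem_span_singleton.1 (Submodule.mem_comap.1 hv)
    exact Submodule.mem_span_singleton.2 ⟨a, hinj (by rw [map_smul, hxB, ha])⟩
  by_cases hm2 : m = 2
  · subst hm2
    obtain ⟨z, hz, hzB⟩ := hx rfl
    obtain rfl : z = x := hinj (hzB.trans hxB.symm)
    rw [Nat.sub_self, Nat.le_zero, Submodule.finrank_eq_zero, eq_bot_iff]
    rintro v ⟨hv, hvφ⟩
    obtain ⟨a, rfl⟩ := Submodule.mem_span_singleton.1 (hX hv)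
    rw [SetLike.mem_coe, LinearMap.mem_ker, map_smul, smul_eq_mul, mul_eq_zero] at hvφ
    rw [Submodule.mem_bot, hvφ.resolve_right (hφz.2 _ hz), zero_smul]
  · have h1 := ((Submodule.finrank_mono (inf_le_left.trans hX :
      Submodule.comap (B - 1) (Submodule.span K {B b}) ⊓ LinearMap.ker φ ≤ _)).trans (finrank_span_le_card _))
    simp at h1
    omega

theorem choice (hK : 4 ≤ Cardinal.mk K) {m : ℕ} (hV : finrank K V = m + 1) {B : Module.End K V}
    (hdet : LinearMap.det B = 1) (hG : Good B) {c : V} (hc : c ≠ 0) {r : Module.Dual K V} (hr : r ≠ 0) :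
    ∃ b φ, Pair B m c r b φ := by
  by_cases hk : LinearMap.ker (B - 1) = ⊥
  · exact choice_zero hK hV hdet hG hc hr hk
  · exact choice_pos hK hV hG hc hr (Submodule.one_le_finrank_iff.2 hk)

/-- The complement inherits the hypotheses. -/
theorem schur_good {m : ℕ} (hV : finrank K V = m + 1) (hm : 2 ≤ m) {B : Module.End K V} (hdet : LinearMap.det B = 1)
    {c : V} {r : Module.Dual K V} {b : V} {φ : Module.Dual K V} (hP : Pair B m c r b φ) (h : φ (B b) = 1) :
    Good (schur B b φ h) := by
  obtain ⟨hb, -, -, -, -, -, hrest⟩ := hP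
  obtain ⟨heig, hC, hX⟩ := hrest hm
  have hW := finrank_ker_dual hV hb
  have hker : finrank K (LinearMap.ker (schur B b φ h - 1)) ≤ m - 2 := by
    refine le_trans ?_ hX
    rw [← Submodule.finrank_map_subtype_eq]
    refine Submodule.finrank_mono ?_
    rintro _ ⟨w, hw, rfl⟩
    refine ⟨Submodule.mem_comap.2 (Submodule.mem_span_singleton.2 ⟨φ (B w.1), ?_⟩), w.2⟩
    have h1 := congrArg Subtype.val (LinearMap.mem_ker.1 hw)
    simp only [LinearMap.sub_apply, Module.End.one_apply, AddSubgroupClass.coe_sub, schur_apply, ZeroMemClass.coe_zero] at h1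
    rw [← sub_eq_zero] at h1 ⊢
    simp only [Submodule.coe_subtype, LinearMap.sub_apply, Module.End.one_apply]
    rw [← neg_eq_zero, ← h1]
    module
  have hrn := LinearMap.finrank_range_add_finrank_ker (schur B b φ h - 1)
  rw [hW] at hrn
  refine ⟨?_, by omega⟩
  rintro ⟨μ, hμ⟩
  have hμw : ∀ w : LinearMap.ker φ, B w.1 - φ (B w.1) • B b = μ • w.1 := fun w => by
    rw [← schur_apply B b φ h w, hμ]; rfl
  have hμ1 : μ ≠ 1 := fun h1 => by
    subst h1
    rw [hμ, one_smul, sub_self, LinearMap.ker_zero, finrank_top, hW] at hker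
    omega
  have hpow : μ ^ m = 1 := by
    have := det_schur B b φ hb h
    rw [hdet, hμ, LinearMap.det_smul, map_one, mul_one, hW] at this
    exact this
  let f : LinearMap.ker φ →ₗ[K] K := (φ.comp B).comp (LinearMap.ker φ).subtype
  have hfE : (LinearMap.ker f).map (LinearMap.ker φ).subtype ≤ Eig B μ := by
    rintro _ ⟨w, hw, rfl⟩
    have hw' : φ (B w.1) = 0 := hw
    have := hμw w
    rw [hw', zero_smul, sub_zero] at this
    exact mem_eig.2 this
  have hdimE : m - 1 ≤ finrank K (Eig B μ) := by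
    have h1 := LinearMap.finrank_range_add_finrank_ker f
    have h2 := Submodule.finrank_le (LinearMap.range f)
    have h3 := Submodule.finrank_mono hfE
    rw [Submodule.finrank_map_subtype_eq] at h3
    rw [hW] at h1
    rw [Module.finrank_self] at h2
    omega
  obtain ⟨z, hz, hzφ⟩ := hC μ ⟨hμ1, hdimE, fun h2 => by
    subst h2
    rw [sq, mul_self_eq_one_iff] at hpow
    exact hpow.resolve_left hμ1, hm⟩
  obtain ⟨k, hk⟩ : ∃ k : K, k = (φ z)⁻¹ := ⟨_, rfl⟩
  have hw : φ (b - k • z) = 0 := by simp [hk, hb, hzφ]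
  have h1 := hμw ⟨b - k • z, hw⟩
  simp only [map_sub, map_smul, mem_eig.1 hz, smul_sub] at h1
  by_cases ht : φ (B b) - k • φ (μ • z) = 1
  · have h2 : μ • b = 0 := by
      rw [map_smul] at ht
      rw [ht, one_smul] at h1
      rw [← neg_eq_zero]
      rw [← sub_eq_zero] at h1
      rw [← h1]
      module
    rcases smul_eq_zero.1 h2 with h2 | h2
    · rw [h2, zero_pow (by omega)] at hpow
      exact zero_ne_one hpow
    · rw [h2, map_zero] at hb
      exact zero_ne_one hb
  · rw [map_smul] at ht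
    refine heig (μ / (1 - (φ (B b) - k • (μ • φ z)))) ?_
    have h3 : (1 - (φ (B b) - k • (μ • φ z))) • B b = μ • b := by
      rw [← sub_eq_zero] at h1 ⊢
      rw [← h1]
      module
    rw [div_eq_inv_mul, ← smul_smul, ← h3, smul_smul, inv_mul_cancel₀ (sub_ne_zero.2 (Ne.symm ht)), one_smul]

end Cfsg.Agent.Lib.TwoClass
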