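import Mathlib
import Cfsg.Agent.Lib.TwoClass.Choice

/-!
A non-scalar matrix of determinant one is a product of two regular unipotent matrices.
-/

set_option autoImplicit false

namespace Cfsg.Agent.Lib.TwoClass

open Module (finrank)

universe u v

variable {K : Type u} [Field K]

/-- The factorisation by induction on the dimension. -/
theorem main (hK : 4 ≤ Cardinal.mk K) : ∀ (m : ℕ) (V : Type v) [AddCommGroup V] [Module K V] [FiniteDimensional K V],
    finrank K V = m + 1 → ∀ B : Module.End K V, LinearMap.det B = 1 → (1 ≤ m → Good B) →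
      ∀ (c : V) (r : Module.Dual K V), c ≠ 0 → r ≠ 0 →
        ∃ L U : Module.End K V, B = L * U ∧ (L - 1) ^ (m + 1) = 0 ∧ (U - 1) ^ (m + 1) = 0 ∧
          ((L - 1) ^ m) c ≠ 0 ∧ ∃ w, r (((U - 1) ^ m) w) ≠ 0 := by
  intro m
  induction m with
  | zero =>
    intro V _ _ _ hV B hdet _ c r hc hr
    obtain ⟨v, hv0, hv⟩ := finrank_eq_one_iff'.1 hV
    obtain ⟨μ, hμ⟩ := hv (B v)
    have hB : B = μ • 1 := LinearMap.ext fun x => by
      obtain ⟨a, rfl⟩ := hv x
      rw [map_smul, ← hμ, LinearMap.smul_apply, Module.End.one_apply, smul_comm]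
    rw [hB, LinearMap.det_smul, hV, map_one, mul_one, pow_one] at hdet
    subst hdet
    rw [one_smul] at hB
    obtain ⟨w, hw⟩ : ∃ w, r w ≠ 0 := by
      by_contra! h; exact hr (LinearMap.ext h)
    exact ⟨1, 1, by rw [hB, one_mul], by simp, by simp, by simpa using hc, w, by simpa using hw⟩
  | succ j ih =>
    intro V _ _ _ hV B hdet hG c r hc hr
    obtain ⟨b, φ, hP⟩ := choice hK hV hdet (hG (by omega)) hc hr
    have hP' := hP
    obtain ⟨hb, hBb, hrb, hφc, hne, ⟨y, hy⟩, -⟩ := hP'
    let π : V →ₗ[K] LinearMap.ker φ := LinearMap.codRestrict _ (LinearMap.id - φ.smulRight b) fun v => by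
      rw [LinearMap.mem_ker]; simp [hb]
    have hπ : ∀ v, (π v : V) = v - φ v • b := fun v => rfl
    have hπW : ∀ w : LinearMap.ker φ, π w.1 = w := fun w => Subtype.ext (by rw [hπ, show φ w.1 = 0 from w.2, zero_smul, sub_zero])
    obtain ⟨d, hd⟩ : ∃ d : LinearMap.ker φ, (d : V) = B b - b :=
      ⟨⟨B b - b, by rw [LinearMap.mem_ker, map_sub, hBb, hb, sub_self]⟩, rfl⟩
    obtain ⟨r', hr'⟩ : ∃ r' : Module.Dual K (LinearMap.ker φ), ∀ w, r' w = φ (B w.1) :=
      ⟨(φ.comp B).comp (LinearMap.ker φ).subtype, fun w => rfl⟩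
    have hd0 : d ≠ 0 := fun h => hne (sub_eq_zero.1 (by rw [← hd, h]; rfl))
    have hr0 : r' ≠ 0 := fun h => hy (by
      have h1 := hr' (π y)
      rw [h, LinearMap.zero_apply, hπ, map_sub, map_sub, map_smul, map_smul, hBb, smul_eq_mul, mul_one] at h1
      rw [LinearMap.sub_apply, Module.End.one_apply, map_sub]
      exact h1.symm)
    obtain ⟨L', U', hLU, hLn, hUn, hLc, w₀, hw₀⟩ := ih (LinearMap.ker φ) (finrank_ker_dual hV hb) (schur B b φ hBb)
      (by rw [det_schur B b φ hb hBb, hdet]) (fun hj => schur_good hV (by omega) hdet hP hBb) d r' hd0 hr0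
    obtain ⟨L, hL⟩ : ∃ L : Module.End K V, ∀ v, L v = φ v • (b + d.1) + (L' (π v)).1 :=
      ⟨φ.smulRight (b + d.1) + (LinearMap.ker φ).subtype.comp (L'.comp π), fun v => rfl⟩
    obtain ⟨U, hU⟩ : ∃ U : Module.End K V, ∀ v, U v = (φ v + r' (π v)) • b + (U' (π v)).1 :=
      ⟨(φ + r'.comp π).smulRight b + (LinearMap.ker φ).subtype.comp (U'.comp π), fun v => rfl⟩
    have hLpow : ∀ (k : ℕ) v, ((L - 1) ^ (k + 1)) v = φ v • (((L' - 1) ^ k) d).1 + (((L' - 1) ^ (k + 1)) (π v)).1 := by
      intro k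
      induction k with
      | zero =>
        intro v
        rw [pow_one, pow_zero, Module.End.one_apply, pow_one, LinearMap.sub_apply, Module.End.one_apply, hL,
          LinearMap.sub_apply, Module.End.one_apply, AddSubgroupClass.coe_sub, hπ]
        module
      | succ k ihk =>
        intro v
        have hW : ∀ x : LinearMap.ker φ, (L - 1) x.1 = ((L' - 1) x).1 := fun x => by
          rw [LinearMap.sub_apply, Module.End.one_apply, hL, show φ x.1 = 0 from x.2, zero_smul, zero_add, hπW,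
            LinearMap.sub_apply, Module.End.one_apply, AddSubgroupClass.coe_sub]
        rw [pow_succ', Module.End.mul_apply, ihk, map_add, map_smul, hW, hW, ← Module.End.mul_apply, ← pow_succ',
          ← Module.End.mul_apply, ← pow_succ']
    have hUpow : ∀ (k : ℕ) v, ((U - 1) ^ (k + 1)) v = r' (((U' - 1) ^ k) (π v)) • b + (((U' - 1) ^ (k + 1)) (π v)).1 := by
      intro k
      induction k with
      | zero =>
        intro v
        rw [pow_one, pow_zero, Module.End.one_apply, pow_one, LinearMap.sub_apply, Module.End.one_apply, hU,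
          LinearMap.sub_apply, Module.End.one_apply, AddSubgroupClass.coe_sub, hπ]
        module
      | succ k ihk =>
        intro v
        have hbz : (U - 1) b = 0 := by
          have hπb : π b = 0 := Subtype.ext (by rw [hπ, hb, one_smul, sub_self]; rfl)
          rw [LinearMap.sub_apply, Module.End.one_apply, hU, hπb, map_zero, map_zero, add_zero, hb, one_smul,
            ZeroMemClass.coe_zero, add_zero, sub_self]
        have hW : ∀ x : LinearMap.ker φ, (U - 1) x.1 = r' x • b + ((U' - 1) x).1 := fun x => by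
          rw [LinearMap.sub_apply, Module.End.one_apply, hU, show φ x.1 = 0 from x.2, zero_add, hπW,
            LinearMap.sub_apply, Module.End.one_apply, AddSubgroupClass.coe_sub, add_sub_assoc]
        rw [pow_succ', Module.End.mul_apply, ihk, map_add, map_smul, hbz, smul_zero, zero_add, hW, ← Module.End.mul_apply, ← pow_succ']
    refine ⟨L, U, LinearMap.ext fun v => ?_, LinearMap.ext fun v => ?_, LinearMap.ext fun v => ?_, ?_, w₀.1, ?_⟩
    · have hπd : ∀ x : LinearMap.ker φ, ∀ a : K, π (a • b + x.1) = x := fun x a => Subtype.ext (by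
        rw [hπ, map_add, map_smul, hb, show φ x.1 = 0 from x.2, smul_eq_mul, mul_one, add_zero, add_sub_cancel_left])
      rw [Module.End.mul_apply, hU, hL, hπd, map_add, map_smul, hb, show φ (U' (π v)).1 = 0 from (U' (π v)).2,
        smul_eq_mul, mul_one, add_zero, ← Module.End.mul_apply, ← hLU, schur_apply, hd, hr', hπ, map_sub, map_sub,
        map_smul, map_smul, hBb, smul_eq_mul, mul_one]
      module
    · rw [hLpow, hLn, pow_succ (L' - 1) (j + 1), hLn, zero_mul, LinearMap.zero_apply, LinearMap.zero_apply]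
      simp
    · rw [hUpow, hUn, pow_succ (U' - 1) (j + 1), hUn, zero_mul, LinearMap.zero_apply, LinearMap.zero_apply]
      simp
    · rw [hLpow, hLn, LinearMap.zero_apply, ZeroMemClass.coe_zero, add_zero]
      exact smul_ne_zero hφc fun h => hLc (Subtype.ext h)
    · rw [hUpow, hUn, LinearMap.zero_apply, ZeroMemClass.coe_zero, add_zero, map_smul, smul_eq_mul, hπW]
      exact mul_ne_zero hw₀ hrb

/-- A product of two regular unipotent endomorphisms. -/
theorem exists_factors {V : Type v} [AddCommGroup V] [Module K V] [FiniteDimensional K V] (hK : 4 ≤ Cardinal.mk K) {n : ℕ}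
    (hn : 3 ≤ n) (hV : finrank K V = n) (B : Module.End K V) (hns : ¬ ∃ μ : K, B = μ • 1) (hdet : LinearMap.det B = 1) :
    ∃ L U : Module.End K V, B = L * U ∧ (L - 1) ^ n = 0 ∧ (U - 1) ^ n = 0 ∧
      (L - 1) ^ (n - 1) ≠ 0 ∧ (U - 1) ^ (n - 1) ≠ 0 := by
  obtain ⟨m, rfl⟩ : ∃ m, n = m + 1 := ⟨n - 1, by omega⟩
  rw [Nat.add_sub_cancel]
  by_cases hR : 2 ≤ finrank K (LinearMap.range (B - 1))
  · haveI : Nontrivial V := Module.nontrivial_of_finrank_pos (R := K) (by omega)
    obtain ⟨c, hc⟩ := exists_ne (0 : V)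
    obtain ⟨r, hr⟩ := exists_ne (0 : Module.Dual K V)
    obtain ⟨L, U, h1, h2, h3, h4, w, h5⟩ := main hK m V hV B hdet (fun _ => ⟨hns, hR⟩) c r hc hr
    exact ⟨L, U, h1, h2, h3, fun h => h4 (by rw [h]; rfl), fun h => h5 (by rw [h, LinearMap.zero_apply, map_zero])⟩
  obtain ⟨k, rfl⟩ : ∃ k, m = k + 1 := ⟨m - 1, by omega⟩
  have hR1 : finrank K (LinearMap.range (B - 1)) = 1 := by
    have : LinearMap.range (B - 1) ≠ ⊥ := fun h => hns ⟨1, by rw [one_smul, ← sub_eq_zero, ← LinearMap.range_eq_bot.1 h]⟩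
    have := Submodule.one_le_finrank_iff.2 this
    omega
  obtain ⟨⟨u, hu⟩, hu0, hspan⟩ := finrank_eq_one_iff'.1 hR1
  have hu0' : u ≠ 0 := fun h => hu0 (Subtype.ext h)
  choose ψ hψ using fun v : V => hspan ⟨(B - 1) v, v, rfl⟩
  have hψ' : ∀ v, (B - 1) v = ψ v • u := fun v => (congrArg Subtype.val (hψ v)).symm
  obtain ⟨f, hf⟩ : ∃ f : Module.Dual K V, ∀ v, f v = ψ v := by
    have hinj : ∀ a a' : K, a • u = a' • u → a = a' := fun a a' h => smul_left_injective K hu0' h
    exact ⟨{ toFun := ψ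
             map_add' := fun x y => hinj _ _ (by rw [add_smul, ← hψ', ← hψ', ← hψ', map_add])
             map_smul' := fun a x => hinj _ _ (by rw [RingHom.id_apply, smul_eq_mul, mul_smul, ← hψ', ← hψ', map_smul]) },
      fun v => rfl⟩
  have hB : B = LinearMap.transvection f u := LinearMap.ext fun v => by
    simp [LinearMap.transvection, hf, ← hψ']
  have hfu : f u = 0 := by
    rw [hB, LinearMap.transvection.det] at hdet
    simpa using hdet
  obtain ⟨w, hw⟩ : ∃ w, f w = 1 := by
    obtain ⟨x, hx⟩ : ∃ x, f x ≠ 0 := by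
      by_contra! h
      refine hns ⟨1, ?_⟩
      rw [one_smul, hB]
      exact LinearMap.ext fun v => by simp [LinearMap.transvection, h v]
    exact ⟨(f x)⁻¹ • x, by simp [hx]⟩
  obtain ⟨η, hηu, hηw⟩ : ∃ η : Module.Dual K V, η u = 1 ∧ η w = 0 := by
    obtain ⟨g, hg⟩ : ∃ g : Module.Dual K V, g u = 1 := by
      obtain ⟨g, hg, -⟩ := Submodule.exists_dual_map_eq_bot_of_notMem (p := (⊥ : Submodule K V)) (x := u) (by simpa using hu0')
        inferInstance
      exact ⟨(g u)⁻¹ • g, by simp [hg]⟩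
    exact ⟨g - g w • f, by simp [hg, hfu], by simp [hw]⟩
  obtain ⟨Φ, hΦd⟩ : ∃ Φ : V →ₗ[K] K × K, Φ = f.prod η := ⟨_, rfl⟩
  have hsurj : Function.Surjective Φ := fun x => ⟨x.1 • w + x.2 • u, by
    rw [hΦd]; refine Prod.ext ?_ ?_ <;> simp [hw, hfu, hηu, hηw]⟩
  have hker : finrank K (LinearMap.ker Φ) = k := by
    have h := LinearMap.finrank_range_add_finrank_ker Φ
    rw [LinearMap.range_eq_top.2 hsurj, finrank_top, Module.finrank_prod, Module.finrank_self, hV] at h
    omega
  let bk := Module.finBasisOfFinrankEq K (LinearMap.ker Φ) hker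
  have hmem : ∀ i, f (bk i).1 = 0 ∧ η (bk i).1 = 0 := fun i => by
    have := LinearMap.mem_ker.1 (bk i).2
    have e : Φ (bk i).1 = (f (bk i).1, η (bk i).1) := LinearMap.congr_fun hΦd _
    rw [e] at this
    exact ⟨congrArg Prod.fst this, congrArg Prod.snd this⟩
  have hli : LinearIndependent K (Fin.cons u (Fin.snoc (fun i => (bk i).1) w) : Fin (k + 1 + 1) → V) := by
    rw [linearIndependent_finCons, linearIndependent_finSnoc]
    refine ⟨⟨bk.linearIndependent.map' _ (Submodule.ker_subtype _), ?_⟩, ?_⟩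
    · intro h
      have : Submodule.span K (Set.range fun i => (bk i).1) ≤ LinearMap.ker f := Submodule.span_le.2 (by
        rintro _ ⟨i, rfl⟩; exact LinearMap.mem_ker.2 (hmem i).1)
      exact one_ne_zero (hw ▸ LinearMap.mem_ker.1 (this h))
    · intro h
      have : Submodule.span K (Set.range (Fin.snoc (fun i => (bk i).1) w)) ≤ LinearMap.ker η := Submodule.span_le.2 (by
        rintro _ ⟨i, rfl⟩
        refine Fin.lastCases ?_ (fun i => ?_) i
        · simp [hηw]
        · simp [(hmem i).2])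
      exact one_ne_zero (hηu ▸ LinearMap.mem_ker.1 (this h))
  let e := basisOfLinearIndependentOfCardEqFinrank hli (by rw [Fintype.card_fin, hV])
  have he0 : e 0 = u := by simp [e]
  have helast : e (Fin.last (k + 1)) = w := by
    simp only [e, coe_basisOfLinearIndependentOfCardEqFinrank, ← Fin.succ_last, Fin.cons_succ, Fin.snoc_last]
  obtain ⟨N, hN0, hNs⟩ : ∃ N : Module.End K V, N (e 0) = 0 ∧ ∀ i : Fin (k + 1), N (e i.succ) = e i.castSucc :=
    ⟨e.constr K (Fin.cons 0 fun i => e i.castSucc), by simp, fun i => by simp⟩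
  have hNk : ∀ (j : ℕ) (i : Fin (k + 2)), (N ^ j) (e i) = if h : j ≤ i.val then e ⟨i.val - j, by omega⟩ else 0 := by
    intro j
    induction j with
    | zero => intro i; simp
    | succ j ihj =>
      intro i
      rw [pow_succ', Module.End.mul_apply, ihj]
      by_cases h1 : j ≤ i.val
      · rw [dif_pos h1]
        by_cases h2 : j + 1 ≤ i.val
        · rw [dif_pos h2]
          have e1 : (⟨i.val - j, by omega⟩ : Fin (k + 2)) = (⟨i.val - j - 1, by omega⟩ : Fin (k + 1)).succ := Fin.ext (by simp; omega)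
          rw [e1, hNs]
          exact congrArg e (Fin.ext (by simp; omega))
        · rw [dif_neg h2]
          have e1 : (⟨i.val - j, by omega⟩ : Fin (k + 2)) = 0 := Fin.ext (by simp; omega)
          rw [e1, hN0]
      · rw [dif_neg h1, dif_neg (by omega), map_zero]
  have hNtop : N ^ (k + 1 + 1) = 0 := e.ext fun i => by rw [hNk, dif_neg (by omega), LinearMap.zero_apply]
  have hNpow : N ^ (k + 1) = B - 1 := e.ext fun i => by
    rw [hNk, hψ', ← hf]
    refine Fin.lastCases ?_ (fun i => ?_) i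
    · rw [dif_pos (by simp), helast, hw, one_smul, ← he0]
      exact congrArg e (Fin.ext (by simp))
    · rw [dif_neg (by simp; omega)]
      refine (smul_eq_zero.2 (.inl ?_)).symm
      refine Fin.cases ?_ (fun i => ?_) i
      · rw [Fin.castSucc_zero, he0, hfu]
      · simp only [e, coe_basisOfLinearIndependentOfCardEqFinrank, Fin.castSucc_succ, Fin.cons_succ, Fin.snoc_castSucc]
        exact (hmem i).1
  obtain ⟨S, hS⟩ : ∃ S, S = ∑ i ∈ Finset.range (k + 1 + 1), (-N) ^ i := ⟨_, rfl⟩
  have hS1 : (1 + N) * S = 1 := by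
    rw [hS, ← sub_neg_eq_add, mul_neg_geom_sum, neg_pow, hNtop, mul_zero, sub_zero]
  have hNS : Commute N S := by
    rw [hS]
    exact Commute.sum_right _ _ _ fun i _ => ((Commute.refl N).neg_right).pow_right i
  have hfac : S * B - 1 = N * (S * (N ^ k - 1)) := by
    have hB' : B = 1 + N ^ (k + 1) := by rw [hNpow]; abel
    have hS' : S = 1 - N * S := by
      rw [eq_sub_iff_add_eq, ← hS1, add_mul, one_mul]
    rw [hB', mul_add, mul_one, pow_succ', ← mul_assoc, ← hNS.eq]
    nth_rewrite 1 [hS']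
    rw [mul_sub, mul_one, mul_sub, ← mul_assoc]
    abel
  have hcomm : Commute N (S * (N ^ k - 1)) := hNS.mul_right (((Commute.refl N).pow_right k).sub_right (Commute.one_right N))
  refine ⟨1 + N, S * B, by rw [← mul_assoc, hS1, one_mul], by rw [add_sub_cancel_left, hNtop],
    by rw [hfac, hcomm.mul_pow, hNtop, zero_mul], ?_, ?_⟩
  · rw [add_sub_cancel_left, hNpow]
    intro h
    exact hns ⟨1, by rw [one_smul, ← sub_eq_zero, h]⟩
  · rw [hfac, hcomm.mul_pow]
    have hk0 : N * N ^ (k + 1) = 0 := by rw [← pow_succ', hNtop]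
    have e1 : N ^ (k + 1) * (S * (N ^ k - 1)) = -(N ^ (k + 1)) := by
      have h1 : N ^ (k + 1) * S = N ^ (k + 1) := by
        conv_rhs => rw [← mul_one (N ^ (k + 1)), ← hS1, ← mul_assoc, mul_add, mul_one, ← pow_succ, hNtop, add_zero]
      rw [← mul_assoc, h1, mul_sub, mul_one, ← pow_add,
        show k + 1 + k = (k + 1 + 1) + (k - 1) by omega, pow_add, hNtop, zero_mul, zero_sub]
    have e2 : ∀ j : ℕ, N ^ (k + 1) * (S * (N ^ k - 1)) ^ j = (-1) ^ j * N ^ (k + 1) := fun j => by
      induction j with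
      | zero => simp
      | succ j ihj => rw [pow_succ (S * (N ^ k - 1)), ← mul_assoc, ihj, mul_assoc, e1, mul_neg, pow_succ (-1 : Module.End K V), mul_assoc, neg_one_mul, mul_neg]
    rw [e2]
    intro h
    refine hns ⟨1, ?_⟩
    rw [one_smul, ← sub_eq_zero, ← hNpow]
    rcases neg_one_pow_eq_or (Module.End K V) (k + 1) with e | e <;> rw [e] at h
    · rwa [one_mul] at h
    · rwa [neg_one_mul, neg_eq_zero] at h

/-- A regular unipotent endomorphism is conjugate to the Jordan block. -/
theorem conj_jordan {n : ℕ} (J : GL (Fin n) K)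
    (hJ : ∀ i j : Fin n, (J : Matrix (Fin n) (Fin n) K) i j = if i = j then 1 else if j.val = i.val + 1 then 1 else 0)
    (X : Matrix (Fin n) (Fin n) K) (hX : (X - 1) ^ n = 0) (hX' : (X - 1) ^ (n - 1) ≠ 0) :
    ∃ x : GL (Fin n) K, X = ((x * J * x⁻¹ : GL (Fin n) K) : Matrix (Fin n) (Fin n) K) := by
  classical
  obtain ⟨N, hN⟩ : ∃ N, N = X - 1 := ⟨_, rfl⟩
  rw [← hN] at hX hX'
  obtain ⟨v, hv⟩ : ∃ v, (N ^ (n - 1)).mulVec v ≠ 0 := by
    by_contra! h
    exact hX' (Matrix.ext_of_mulVec_single fun i => by rw [h, Matrix.zero_mulVec])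
  obtain ⟨P, hP⟩ : ∃ P : Matrix (Fin n) (Fin n) K, ∀ i j, P i j = ((N ^ (n - 1 - j.val)).mulVec v) i :=
    ⟨Matrix.of fun i j => ((N ^ (n - 1 - j.val)).mulVec v) i, fun i j => rfl⟩
  have hcol : ∀ a : Fin n → K, P.mulVec a = ∑ j, a j • (N ^ (n - 1 - j.val)).mulVec v := fun a => by
    funext i
    simp [Matrix.mulVec, dotProduct, hP, Finset.sum_apply, mul_comm]
  have hzero : ∀ k, n ≤ k → N ^ k = 0 := fun k hk => pow_eq_zero_of_le hk hX
  have hinj : Function.Injective P.mulVec := by
    intro a a' h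
    by_contra hne
    have hne' : (Finset.univ.filter fun j => a j - a' j ≠ 0).Nonempty := by
      by_contra h0
      rw [Finset.not_nonempty_iff_eq_empty, Finset.filter_eq_empty_iff] at h0
      exact hne (funext fun j => sub_eq_zero.1 (not_not.1 (h0 (Finset.mem_univ j))))
    obtain ⟨j₀, hj₀, hmax⟩ := Finset.exists_max_image _ id hne'
    have h1 : (N ^ j₀.val).mulVec (P.mulVec (a - a')) = 0 := by
      rw [Matrix.mulVec_sub, h, sub_self, Matrix.mulVec_zero]
    rw [hcol, Matrix.mulVec_sum, Finset.sum_eq_single j₀] at h1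
    · rw [Matrix.mulVec_smul, Matrix.mulVec_mulVec, ← pow_add, show j₀.val + (n - 1 - j₀.val) = n - 1 by omega] at h1
      exact (smul_eq_zero.1 h1).elim (Finset.mem_filter.1 hj₀).2 hv
    · intro j _ hj
      rw [Matrix.mulVec_smul, Matrix.mulVec_mulVec, ← pow_add]
      by_cases hja : a j - a' j = 0
      · rw [Pi.sub_apply, hja, zero_smul]
      · have : j ≤ j₀ := hmax j (Finset.mem_filter.2 ⟨Finset.mem_univ _, hja⟩)
        have : j.val < j₀.val := lt_of_le_of_ne this fun e => hj (Fin.ext e)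
        rw [hzero _ (by omega), Matrix.zero_mulVec, smul_zero]
    · simp
  have hPJ : X * P = P * J.1 := by
    have hX1 : X = 1 + N := by rw [hN]; abel
    have hJ' : J.1 = 1 + Matrix.of (fun i j : Fin n => if j.val = i.val + 1 then (1 : K) else 0) := by
      ext i j
      rw [hJ, Matrix.add_apply, Matrix.one_apply, Matrix.of_apply]
      split_ifs with h1 h2 <;> first | (subst h1; omega) | simp
    rw [hX1, hJ', add_mul, mul_add, one_mul, mul_one]
    congr 1
    ext i j
    rw [Matrix.mul_apply, Matrix.mul_apply]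
    simp only [Matrix.of_apply, mul_ite, mul_one, mul_zero, hP]
    have e1 : ∑ x, N i x * ((N ^ (n - 1 - j.val)).mulVec v) x = ((N ^ (n - j.val)).mulVec v) i := by
      rw [show n - j.val = n - 1 - j.val + 1 by omega, pow_succ', ← Matrix.mulVec_mulVec]
      rfl
    rw [e1]
    by_cases hj : j.val = 0
    · rw [hj, Nat.sub_zero, hX, Matrix.zero_mulVec, Finset.sum_eq_zero]
      · rfl
      · intro x _; rw [if_neg (by omega)]
    · rw [Finset.sum_eq_single (⟨j.val - 1, by omega⟩ : Fin n)]
      · rw [if_pos (by simp; omega)]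
        congr 2
        simp only
        omega
      · intro x _ hx
        rw [if_neg]
        intro h
        exact hx (Fin.ext (by simp; omega))
      · simp
  obtain ⟨x, hx⟩ := Matrix.mulVec_injective_iff_isUnit.1 hinj
  refine ⟨x, ?_⟩
  rw [Units.val_mul, Units.val_mul, hx, ← hPJ, mul_assoc, ← hx, ← Units.val_mul, mul_inv_cancel, Units.val_one, mul_one]

/-- Every non-scalar matrix of determinant one is a product of two conjugates of the Jordan block. -/
theorem lev (hK : 4 ≤ Cardinal.mk K) {n : ℕ} (hn : 3 ≤ n) (J g : GL (Fin n) K)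
    (hJ : ∀ i j : Fin n, (J : Matrix (Fin n) (Fin n) K) i j = if i = j then 1 else if j.val = i.val + 1 then 1 else 0)
    (hg : ¬ ∃ c : K, (g : Matrix (Fin n) (Fin n) K) = c • (1 : Matrix (Fin n) (Fin n) K))
    (hdet : (g : Matrix (Fin n) (Fin n) K).det = 1) :
    ∃ x y : GL (Fin n) K, g = (x * J * x⁻¹) * (y * J * y⁻¹) := by
  let τ := Matrix.toLinAlgEquiv' (R := K) (n := Fin n)
  obtain ⟨L, U, h1, h2, h3, h4, h5⟩ := exists_factors hK hn (by rw [Module.finrank_fintype_fun_eq_card, Fintype.card_fin])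
    (τ g.1) (fun ⟨μ, hμ⟩ => hg ⟨μ, τ.injective (by rw [hμ, map_smul, map_one])⟩)
    (by rw [show τ g.1 = Matrix.toLin' g.1 from rfl, LinearMap.det_toLin', hdet])
  obtain ⟨x, hx⟩ := conj_jordan J hJ (τ.symm L) (by rw [← map_one τ.symm, ← map_sub, ← map_pow, h2, map_zero])
    (fun h => h4 (τ.symm.injective (by rw [map_pow, map_sub, map_one, h, map_zero])))
  obtain ⟨y, hy⟩ := conj_jordan J hJ (τ.symm U) (by rw [← map_one τ.symm, ← map_sub, ← map_pow, h3, map_zero])
    (fun h => h5 (τ.symm.injective (by rw [map_pow, map_sub, map_one, h, map_zero])))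
  refine ⟨x, y, Units.ext ?_⟩
  rw [Units.val_mul, ← hx, ← hy, ← map_mul, ← h1, AlgEquiv.symm_apply_apply]

end Cfsg.Agent.Lib.TwoClass
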